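import Groth.Agent.S7984
import Groth.Agent.OpenDim.Dims
import Groth.Agent.QCRange.Basic

/-!
# The boundary of an orbit consists of orbits of smaller dimension
-/

set_option autoImplicit false
set_option linter.style.haveILetI false
set_option backward.isDefEq.respectTransparency false

universe u

open CategoryTheory MonoidalCategory CartesianMonoidalCategory MonObj AlgebraicGeometry Topology

noncomputable section

namespace Groth.Agent.OrbitDim

variable {K : Type u} [Field K] {G X : Over (Spec (CommRingCat.of K))} [GrpObj G]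
  [LocallyOfFiniteType G.hom] [QuasiCompact G.hom] [LocallyOfFiniteType X.hom] [QuasiCompact X.hom]

omit [GrpObj G] [LocallyOfFiniteType G.hom] [QuasiCompact G.hom] in
theorem exists_trd_bound : ∃ N : ℕ, ∀ z : X.left, OpenDim.trd X.hom z ≤ N := by
  classical
  haveI : IsLocallyNoetherian X.left := LocallyOfFiniteType.isLocallyNoetherian X.hom
  haveI : CompactSpace X.left := QuasiCompact.compactSpace_of_compactSpace X.hom
  haveI : IsNoetherian X.left := {}
  choose gen hgen using fun Z : irreducibleComponents X.left =>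
    QuasiSober.sober Z.2.1 (isClosed_of_mem_irreducibleComponents Z.1 Z.2)
  haveI : Finite (irreducibleComponents X.left) :=
    TopologicalSpace.NoetherianSpace.finite_irreducibleComponents.to_subtype
  obtain ⟨N, hN⟩ := (Set.finite_range fun Z => OpenDim.trd X.hom (gen Z)).bddAbove
  refine ⟨N, fun z => ?_⟩
  let Z : irreducibleComponents X.left := ⟨_, irreducibleComponent_mem_irreducibleComponents z⟩
  exact (OpenDim.trd_le X.hom ((hgen Z).specializes mem_irreducibleComponent) (Subsingleton.elim _ _)).trans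
    (hN ⟨Z, rfl⟩)

variable [IsAlgClosed K] (a : AlgGrp.Action G X) (x : 𝟙_ (Over (Spec (CommRingCat.of K))) ⟶ X)

theorem isClosed_boundary :
    IsClosed (closure (Set.range (a.orbitMap x).left) \ Set.range (a.orbitMap x).left) := by
  obtain ⟨V, hV, hVO⟩ := S7984.orbit_open_in_closure a x
  rw [show closure (Set.range (a.orbitMap x).left) \ Set.range (a.orbitMap x).left =
    closure (Set.range (a.orbitMap x).left) ∩ Vᶜ from ?_]
  · exact isClosed_closure.inter hV.isClosed_compl
  · ext z
    constructor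
    · exact fun hz => ⟨hz.1, fun hzV => hz.2 (hVO.ge ⟨hzV, hz.1⟩)⟩
    · exact fun hz => ⟨hz.1, fun hzO => hz.2 (hVO.le hzO).1⟩

omit [LocallyOfFiniteType G.hom] [IsAlgClosed K] in
theorem quasiCompact_orbitMap : QuasiCompact (a.orbitMap x).left := by
  haveI : QuasiCompact ((a.orbitMap x).left ≫ X.hom) := by rw [Over.w]; infer_instance
  haveI : IsLocallyNoetherian X.left := LocallyOfFiniteType.isLocallyNoetherian X.hom
  exact QuasiCompact.of_comp _ X.hom

omit [LocallyOfFiniteType G.hom] [IsAlgClosed K] in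
theorem exists_generalization {z : X.left} (hz : z ∈ closure (Set.range (a.orbitMap x).left)) :
    ∃ w ∈ Set.range (a.orbitMap x).left, w ⤳ z := by
  haveI := quasiCompact_orbitMap a x
  obtain ⟨g, hg⟩ := QCRange.exists_specializes (a.orbitMap x).left z hz
  exact ⟨_, ⟨g, rfl⟩, hg⟩

omit [IsAlgClosed K] in
theorem range_nonempty : (Set.range (a.orbitMap x).left).Nonempty :=
  ⟨_, η[G].left (IsLocalRing.closedPoint K), rfl⟩

/-- The dimension of an orbit is the largest transcendence degree of its points. -/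
theorem exists_dim_eq : ∃ n : ℕ,
    topologicalKrullDim ↥(Set.range (a.orbitMap x).left) = (n : WithBot ℕ∞) ∧
    (∃ z ∈ Set.range (a.orbitMap x).left, OpenDim.trd X.hom z = n) ∧
    ∀ z ∈ Set.range (a.orbitMap x).left, OpenDim.trd X.hom z ≤ n := by
  classical
  obtain ⟨V, hV, hVO⟩ := S7984.orbit_open_in_closure a x
  obtain ⟨N, hN⟩ := exists_trd_bound (X := X)
  let O := Set.range (a.orbitMap x).left
  have hne : (OpenDim.trd X.hom '' O).Nonempty := (range_nonempty a x).image _
  have hfin : (OpenDim.trd X.hom '' O).Finite :=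
    (Set.finite_Iic N).subset (by rintro _ ⟨z, -, rfl⟩; exact hN z)
  obtain ⟨n, ⟨z₀, hz₀, rfl⟩, hn⟩ := Set.exists_max_image _ id hfin hne
  have hS : O = closure O ∩ V ∩ X.hom ⁻¹' {X.hom z₀} := by
    ext w
    constructor
    · exact fun hw => ⟨⟨(hVO.le hw).2, (hVO.le hw).1⟩, Subsingleton.elim (α := PrimeSpectrum K) _ _⟩
    · exact fun hw => hVO.ge ⟨hw.1.2, hw.1.1⟩
  refine ⟨_, le_antisymm ?_ ?_, ⟨z₀, hz₀, rfl⟩, fun z hz => hn _ ⟨z, hz, rfl⟩⟩
  · exact OpenDim.dim_inter_le X.hom (closure O) isClosed_closure V hV (X.hom z₀) O hS fun w hw => by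
      exact_mod_cast hn _ ⟨w, hw, rfl⟩
  · exact OpenDim.trd_le_dim_inter X.hom (closure O) isClosed_closure V hV (X.hom z₀) O hS hz₀

theorem trd_boundary_lt {n : ℕ} (hn : ∀ z ∈ Set.range (a.orbitMap x).left, OpenDim.trd X.hom z ≤ n)
    {w : X.left} (hw : w ∈ closure (Set.range (a.orbitMap x).left) \ Set.range (a.orbitMap x).left) :
    OpenDim.trd X.hom w < n := by
  obtain ⟨v, hv, hvw⟩ := exists_generalization a x hw.1
  exact (OpenDim.trd_lt X.hom hvw (fun e => hw.2 (e ▸ hv)) (Subsingleton.elim _ _)).trans_le (hn v hv)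

theorem dim_boundary_lt :
    topologicalKrullDim ↥(closure (Set.range (a.orbitMap x).left) \ Set.range (a.orbitMap x).left) <
      topologicalKrullDim ↥(Set.range (a.orbitMap x).left) := by
  obtain ⟨n, hdim, ⟨z₀, hz₀, hzn⟩, hn⟩ := exists_dim_eq a x
  let D := closure (Set.range (a.orbitMap x).left) \ Set.range (a.orbitMap x).left
  have hS : D = D ∩ Set.univ ∩ X.hom ⁻¹' {X.hom z₀} := by
    ext w
    exact ⟨fun hw => ⟨⟨hw, trivial⟩, Subsingleton.elim (α := PrimeSpectrum K) _ _⟩, fun hw => hw.1.1⟩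
  rw [hdim]
  cases n with
  | zero =>
    refine lt_of_le_of_lt (OpenDim.dim_inter_le X.hom D (isClosed_boundary a x) Set.univ isOpen_univ (X.hom z₀) D hS
      (D := ⊥) fun w hw => ?_) (WithBot.bot_lt_coe _)
    exact absurd (trd_boundary_lt a x hn hw) (Nat.not_lt_zero _)
  | succ m =>
    refine lt_of_le_of_lt (OpenDim.dim_inter_le X.hom D (isClosed_boundary a x) Set.univ isOpen_univ (X.hom z₀) D hS
      (D := (m : WithBot ℕ∞)) fun w hw => ?_) (by exact_mod_cast Nat.lt_succ_self m)
    exact_mod_cast Nat.lt_succ_iff.1 (trd_boundary_lt a x hn hw)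

omit [QuasiCompact G.hom] [LocallyOfFiniteType X.hom] [QuasiCompact X.hom] [IsAlgClosed K] [LocallyOfFiniteType G.hom] in
theorem image_translX_range (g : 𝟙_ (Over (Spec (CommRingCat.of K))) ⟶ G) :
    MonoFibre.translXHomeo a g '' Set.range (a.orbitMap x).left = Set.range (a.orbitMap x).left := by
  have h1 : ∀ g, MonoFibre.translXHomeo a g '' Set.range (a.orbitMap x).left ⊆ Set.range (a.orbitMap x).left := fun g => by
    rintro _ ⟨_, ⟨h, rfl⟩, rfl⟩
    refine ⟨(MonoFibre.translG g).left h, ?_⟩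
    show (a.orbitMap x).left ((MonoFibre.translG g).left h) = (MonoFibre.translX a g).left ((a.orbitMap x).left h)
    rw [← Scheme.Hom.comp_apply, ← Scheme.Hom.comp_apply, ← Over.comp_left, ← Over.comp_left, MonoFibre.orbitMap_translX]
  refine (h1 g).antisymm fun y hy => ⟨(MonoFibre.translX a g⁻¹).left y, h1 g⁻¹ ⟨y, hy, rfl⟩, ?_⟩
  exact (MonoFibre.translXHomeo a g).right_inv y

omit [QuasiCompact G.hom] [LocallyOfFiniteType X.hom] [QuasiCompact X.hom] [IsAlgClosed K] [LocallyOfFiniteType G.hom] in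
theorem comp_orbitMap (g : 𝟙_ (Over (Spec (CommRingCat.of K))) ⟶ G) (y : 𝟙_ (Over (Spec (CommRingCat.of K))) ⟶ X) :
    g ≫ a.orbitMap y = y ≫ MonoFibre.translX a g := by
  simp only [AlgGrp.Action.orbitMap, MonoFibre.translX, comp_lift_assoc, Category.comp_id, comp_toUnit_assoc,
    toUnit_unique (toUnit (𝟙_ (Over (Spec (CommRingCat.of K))))) (𝟙 _), Category.id_comp]

/-- The orbit of a rational point of the boundary stays in the boundary. -/
theorem range_subset_boundary (y : 𝟙_ (Over (Spec (CommRingCat.of K))) ⟶ X)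
    (hy : y.left (IsLocalRing.closedPoint K) ∈ closure (Set.range (a.orbitMap x).left) \ Set.range (a.orbitMap x).left) :
    Set.range (a.orbitMap y).left ⊆ closure (Set.range (a.orbitMap x).left) \ Set.range (a.orbitMap x).left := by
  let D := closure (Set.range (a.orbitMap x).left) \ Set.range (a.orbitMap x).left
  haveI : JacobsonSpace G.left := LocallyOfFiniteType.jacobsonSpace G.hom
  rintro _ ⟨g, rfl⟩
  by_contra hg
  obtain ⟨c, hc, hcc⟩ := nonempty_inter_closedPoints (X := G.left)
    (Z := ((a.orbitMap y).left ⁻¹' D)ᶜ) ⟨g, hg⟩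
    ((isClosed_boundary a x).preimage (a.orbitMap y).left.continuous).isOpen_compl.isLocallyClosed
  obtain ⟨gc, hgc⟩ := MonoFibre.exists_ratPt_mem (G := G) (mem_closedPoints_iff.1 hcc) ⟨c, rfl⟩
  rw [Set.mem_singleton_iff] at hgc
  apply hc
  show (a.orbitMap y).left c ∈ D
  rw [← hgc, ← Scheme.Hom.comp_apply, ← Over.comp_left, comp_orbitMap, Over.comp_left, Scheme.Hom.comp_apply]
  have h : MonoFibre.translXHomeo a gc '' D = D := by
    rw [Set.image_diff (MonoFibre.translXHomeo a gc).injective, (MonoFibre.translXHomeo a gc).image_closure,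
      image_translX_range]
  exact h.le ⟨_, hy, rfl⟩

/-- An orbit of least dimension is closed. -/
theorem isClosed_of_minimal
    (hmin : ∀ y : 𝟙_ (Over (Spec (CommRingCat.of K))) ⟶ X,
      topologicalKrullDim (Set.range (a.orbitMap x).left) ≤ topologicalKrullDim (Set.range (a.orbitMap y).left)) :
    IsClosed (Set.range (a.orbitMap x).left) := by
  rw [← closure_subset_iff_isClosed]
  intro z hz
  by_contra hzO
  haveI : JacobsonSpace X.left := LocallyOfFiniteType.jacobsonSpace X.hom
  obtain ⟨c, hc, hcc⟩ := nonempty_inter_closedPoints (X := X.left) (⟨z, hz, hzO⟩ : (closure _ \ _).Nonempty)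
    (isClosed_boundary a x).isLocallyClosed
  let y : 𝟙_ (Over (Spec (CommRingCat.of K))) ⟶ X :=
    Over.homMk (pointOfClosedPoint X.hom c (mem_closedPoints_iff.1 hcc)) (pointOfClosedPoint_comp _ _ _)
  have hy : y.left (IsLocalRing.closedPoint K) = c := pointOfClosedPoint_apply X.hom c (mem_closedPoints_iff.1 hcc) _
  have hsub := range_subset_boundary a x y (hy ▸ hc)
  obtain ⟨n, hdim, -, hn⟩ := exists_dim_eq a x
  obtain ⟨m, hdim', ⟨w, hw, hwm⟩, -⟩ := exists_dim_eq a y
  have h := hmin y
  rw [hdim, hdim'] at h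
  have h' : n ≤ m := by exact_mod_cast h
  have := trd_boundary_lt a x hn (hsub hw)
  omega

theorem exists_isClosed [Nonempty X.left] :
    ∃ x : 𝟙_ (Over (Spec (CommRingCat.of K))) ⟶ X, IsClosed (Set.range (a.orbitMap x).left) := by
  classical
  haveI : JacobsonSpace X.left := LocallyOfFiniteType.jacobsonSpace X.hom
  obtain ⟨z⟩ := (inferInstance : Nonempty X.left)
  obtain ⟨c, -, hcc⟩ := nonempty_inter_closedPoints (X := X.left) (⟨z, trivial⟩ : (Set.univ : Set X.left).Nonempty)
    isClosed_univ.isLocallyClosed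
  let y : 𝟙_ (Over (Spec (CommRingCat.of K))) ⟶ X :=
    Over.homMk (pointOfClosedPoint X.hom c (mem_closedPoints_iff.1 hcc)) (pointOfClosedPoint_comp _ _ _)
  have hex : ∃ n : ℕ, ∃ x, topologicalKrullDim (Set.range (a.orbitMap x).left) = (n : WithBot ℕ∞) :=
    ⟨_, y, (exists_dim_eq a y).choose_spec.1⟩
  obtain ⟨x, hx⟩ := Nat.find_spec hex
  refine ⟨x, isClosed_of_minimal a x fun y => ?_⟩
  obtain ⟨m, hm, -⟩ := exists_dim_eq a y
  rw [hx, hm]
  exact_mod_cast Nat.find_min' hex ⟨y, hm⟩

end Groth.Agent.OrbitDim
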